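import Mathlib
import Cfsg.Agent.Core.Frattini

/-!
Counting generating tuples of an elementary abelian group, and the divisibility bound for automorphism
groups of finite p-groups.
-/

set_option autoImplicit false

namespace Cfsg.Agent.FGS

open Subgroup
open scoped commutatorElement

section Tuples

variable {Q : Type*} [Group Q] [Finite Q] {p r : ℕ} [hp : Fact p.Prime]

open Classical in
theorem card_closure_snoc (hcomm : ∀ a b : Q, a * b = b * a) (hexp : ∀ x : Q, x ^ p = 1) {i : ℕ}
    (v : Fin i → Q) (x : Q) :
    Nat.card (closure (Set.range (Fin.snoc v x : Fin (i + 1) → Q))) =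
      if x ∈ closure (Set.range v) then Nat.card (closure (Set.range v))
      else Nat.card (closure (Set.range v)) * p := by
  classical
  have h1 : closure (Set.range (Fin.snoc v x : Fin (i + 1) → Q)) = closure (Set.range v) ⊔ zpowers x := by
    rw [Fin.range_snoc, Set.insert_eq, Subgroup.closure_union, sup_comm, zpowers_eq_closure]
  rw [h1]
  split_ifs with h
  · rw [sup_eq_left.mpr (zpowers_le.mpr h)]
  · have : (zpowers x).Normal := ⟨fun n hn g => by rwa [hcomm g n, mul_inv_cancel_right]⟩
    have hox : orderOf x = p := orderOf_eq_prime (hexp x) fun h1 => h (h1 ▸ one_mem _)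
    have hinf : closure (Set.range v) ⊓ zpowers x = ⊥ := by
      rw [eq_bot_iff]
      intro y hy
      obtain ⟨hy1, hy2⟩ := hy
      rw [mem_bot]
      by_contra hy0
      apply h
      have hle : zpowers x ≤ zpowers y := by
        refine (eq_of_le_of_card_ge (zpowers_le.mpr hy2) ?_).ge
        rw [Nat.card_zpowers, Nat.card_zpowers, hox, orderOf_eq_prime (hexp y) hy0]
      exact (zpowers_le.mpr hy1) (hle (mem_zpowers x))
    rw [Core.card_sup_of_inf_eq_bot hinf, Nat.card_zpowers, hox]

theorem card_closure_le (hcomm : ∀ a b : Q, a * b = b * a) (hexp : ∀ x : Q, x ^ p = 1) :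
    ∀ (i : ℕ) (v : Fin i → Q), Nat.card (closure (Set.range v)) ≤ p ^ i := by
  intro i
  induction i with
  | zero =>
    intro v
    have : Set.range v = ∅ := Set.range_eq_empty v
    rw [this, Subgroup.closure_empty, card_bot, pow_zero]
  | succ i ih =>
    intro v
    have hpos := hp.out.pos
    rw [← Fin.snoc_init_self v, card_closure_snoc hcomm hexp]
    split_ifs
    · exact (ih _).trans (Nat.pow_le_pow_right hpos (Nat.le_succ i))
    · exact Nat.mul_le_mul_right p (ih _)

/-- The number of independent `i`-tuples. -/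
theorem card_independent_tuples (hcomm : ∀ a b : Q, a * b = b * a) (hexp : ∀ x : Q, x ^ p = 1)
    (hQ : Nat.card Q = p ^ r) : ∀ i : ℕ,
    Nat.card {v : Fin i → Q // Nat.card (closure (Set.range v)) = p ^ i} =
      ∏ j ∈ Finset.range i, (p ^ r - p ^ j) := by
  classical
  intro i
  induction i with
  | zero =>
    rw [Finset.prod_range_zero, Nat.card_eq_one_iff_unique]
    refine ⟨⟨fun a b => Subtype.ext (funext fun j => j.elim0)⟩, ⟨⟨Fin.elim0, ?_⟩⟩⟩
    have : Set.range (Fin.elim0 : Fin 0 → Q) = ∅ := Set.range_eq_empty _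
    rw [this, Subgroup.closure_empty, card_bot, pow_zero]
  | succ i ih =>
    let T : ℕ → Type _ := fun i => {v : Fin i → Q // Nat.card (closure (Set.range v)) = p ^ i}
    let e : T (i + 1) ≃ Σ v : T i, {x : Q // x ∉ closure (Set.range v.1)} :=
      { toFun := fun w =>
          have h : Nat.card (closure (Set.range (Fin.snoc (Fin.init w.1) (w.1 (Fin.last i)) : Fin (i+1) → Q)))
              = p ^ (i + 1) := by rw [Fin.snoc_init_self]; exact w.2
          have hne : w.1 (Fin.last i) ∉ closure (Set.range (Fin.init w.1)) := fun hm => by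
            rw [card_closure_snoc hcomm hexp, if_pos hm] at h
            have h1 := card_closure_le hcomm hexp i (Fin.init w.1)
            have h2 := Nat.pow_lt_pow_right hp.out.one_lt (show i < i + 1 by omega)
            omega
          ⟨⟨Fin.init w.1, by
            rw [card_closure_snoc hcomm hexp, if_neg hne] at h
            exact Nat.eq_of_mul_eq_mul_right hp.out.pos (h.trans (pow_succ p i))⟩, ⟨w.1 (Fin.last i), hne⟩⟩
        invFun := fun s => ⟨Fin.snoc s.1.1 s.2.1, by
          rw [card_closure_snoc hcomm hexp, if_neg s.2.2, s.1.2, pow_succ]⟩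
        left_inv := fun w => Subtype.ext (Fin.snoc_init_self w.1)
        right_inv := fun s => by
          obtain ⟨⟨v, hv⟩, ⟨x, hx⟩⟩ := s
          have h1 : Fin.init (α := fun _ => Q) (Fin.snoc (α := fun _ => Q) v x) = v := by simp [Fin.init_snoc]
          have h2 : Fin.snoc (α := fun _ => Q) v x (Fin.last i) = x := by simp [Fin.snoc_last]
          exact Sigma.subtype_ext (Subtype.ext h1) h2 }
    cases nonempty_fintype Q
    rw [Nat.card_congr e, Nat.card_sigma, Finset.prod_range_succ, ← ih, Nat.card_eq_fintype_card]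
    rw [Finset.sum_congr rfl (g := fun _ => p ^ r - p ^ i), Finset.sum_const, smul_eq_mul,
      Finset.card_univ]
    intro v _
    rw [Nat.card_eq_fintype_card, Fintype.card_subtype_compl]
    have h2 : Fintype.card {x : Q // x ∈ closure (Set.range v.1)} = p ^ i := by
      rw [← Nat.card_eq_fintype_card]; exact v.2
    rw [h2, ← Nat.card_eq_fintype_card, hQ]

end Tuples

theorem card_dvd_of_free {A S : Type*} [Group A] [MulAction A S] [Finite S] [Finite A]
    (hfree : ∀ (a : A) (s : S), a • s = s → a = 1) : Nat.card A ∣ Nat.card S := by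
  classical
  cases nonempty_fintype S
  rw [Nat.card_congr (MulAction.selfEquivSigmaOrbits A S), Nat.card_sigma]
  refine Finset.dvd_sum fun ω _ => dvd_of_eq ?_
  rw [← Nat.card_congr (MulAction.orbitEquivQuotientStabilizer A _).symm]
  have h : MulAction.stabilizer A (Quotient.out ω) = ⊥ := by
    rw [Subgroup.eq_bot_iff_forall]
    exact fun a ha => hfree a _ ha
  rw [← Subgroup.index_eq_card, h, index_bot]

variable {P : Type*} [Group P] [Finite P] {p n r : ℕ} [Fact p.Prime]

theorem frattini_quotient_props (hP : Nat.card P = p ^ n) :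
    (∀ a b : P ⧸ frattini P, a * b = b * a) ∧ ∀ x : P ⧸ frattini P, x ^ p = 1 := by
  have hp : IsPGroup p P := IsPGroup.of_card hP
  have := hp.isNilpotent
  refine ⟨fun a b => ?_, fun x => ?_⟩
  · obtain ⟨a, rfl⟩ := QuotientGroup.mk_surjective a
    obtain ⟨b, rfl⟩ := QuotientGroup.mk_surjective b
    rw [← QuotientGroup.mk_mul, ← QuotientGroup.mk_mul, QuotientGroup.eq]
    refine Core.commutator_le_frattini ?_
    rw [commutator_def]
    have h1 : ⁅b⁻¹, a⁻¹⁆ = (a * b)⁻¹ * (b * a) := by rw [commutatorElement_def]; group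
    rw [← h1]
    exact Subgroup.commutator_mem_commutator (mem_top _) (mem_top _)
  · obtain ⟨x, rfl⟩ := QuotientGroup.mk_surjective x
    rw [← QuotientGroup.mk_pow, QuotientGroup.eq_one_iff]
    exact Core.pow_mem_frattini hp x

/-- An automorphism fixing generators modulo the Frattini subgroup is trivial. -/
theorem eq_one_of_fixes {k : ℕ} (v : Fin k → P)
    (hv : closure (Set.range fun i => (v i : P ⧸ frattini P)) = ⊤) (α : MulAut P)
    (hα : ∀ i, α (v i) = v i) : α = 1 := by
  have h1 : closure (Set.range v) ⊔ frattini P = ⊤ := by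
    have h2 : (closure (Set.range v)).map (QuotientGroup.mk' (frattini P)) = ⊤ := by
      rw [MonoidHom.map_closure, ← Set.range_comp]; exact hv
    have h3 := congrArg (Subgroup.comap (QuotientGroup.mk' (frattini P))) h2
    rwa [comap_map_eq, QuotientGroup.ker_mk', comap_top] at h3
  have h4 := Core.eq_top_of_sup_frattini le_rfl h1
  ext x
  have hx : x ∈ closure (Set.range v) := h4 ▸ mem_top x
  induction hx using Subgroup.closure_induction with
  | mem y hy => obtain ⟨i, rfl⟩ := hy; exact hα i
  | one => exact map_one α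
  | mul a b _ _ ha hb => simp only [MulAut.one_apply] at ha hb ⊢; rw [map_mul, ha, hb]
  | inv a _ ha => simp only [MulAut.one_apply] at ha ⊢; rw [map_inv, ha]

/-- The generating tuples. -/
def GenTuple (P : Type*) [Group P] (k : ℕ) : Type _ :=
  {v : Fin k → P // closure (Set.range fun i => (v i : P ⧸ frattini P)) = ⊤}

theorem card_quotient_frattini (hP : Nat.card P = p ^ n) (hr : (frattini P).index = p ^ r) :
    Nat.card (P ⧸ frattini P) = p ^ r ∧ Nat.card (frattini P) = p ^ (n - r) := by
  have h0 : Nat.card (P ⧸ frattini P) = p ^ r := by rw [← index_eq_card, hr]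
  refine ⟨h0, ?_⟩
  have h1 := (frattini P).card_mul_index
  rw [hP, hr] at h1
  have hrn : r ≤ n := (Nat.pow_dvd_pow_iff_le_right (Fact.out : p.Prime).one_lt).mp (h1 ▸ Dvd.intro_left _ rfl)
  apply Nat.eq_of_mul_eq_mul_right (pow_pos (Fact.out : p.Prime).pos r)
  rw [h1, ← pow_add, Nat.sub_add_cancel hrn]

theorem exists_gen_quotient (hP : Nat.card P = p ^ n) (hr : (frattini P).index = p ^ r) :
    ∃ w : Fin r → P ⧸ frattini P, closure (Set.range w) = ⊤ := by
  obtain ⟨hcomm, hexp⟩ := frattini_quotient_props hP
  obtain ⟨hQ, -⟩ := card_quotient_frattini hP hr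
  have hpos : 0 < ∏ j ∈ Finset.range r, (p ^ r - p ^ j) := Finset.prod_pos fun j hj =>
    Nat.sub_pos_of_lt (Nat.pow_lt_pow_right (Fact.out : p.Prime).one_lt (Finset.mem_range.mp hj))
  rw [← card_independent_tuples hcomm hexp hQ r] at hpos
  obtain ⟨⟨w, hw⟩⟩ := (Nat.card_pos_iff.mp hpos).1
  exact ⟨w, eq_top_of_card_eq _ (hw.trans hQ.symm)⟩

/-- The kernel of the action on the Frattini quotient. -/
theorem card_dvd_of_trivial_on_frattini_quotient (hP : Nat.card P = p ^ n)
    (hr : (frattini P).index = p ^ r) (A : Subgroup (MulAut P))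
    (hA : ∀ α ∈ A, ∀ x : P, α x * x⁻¹ ∈ frattini P) : Nat.card A ∣ p ^ (r * (n - r)) := by
  obtain ⟨w, hw⟩ := exists_gen_quotient hP hr
  let S := ∀ i : Fin r, {x : P // (x : P ⧸ frattini P) = w i}
  letI : MulAction A S :=
    { smul := fun a s i => ⟨(a : MulAut P) (s i).1, by
        refine Eq.trans ?_ (s i).2
        rw [eq_comm, QuotientGroup.eq]
        have h := (frattini_characteristic (G := P) |> fun _ =>
          (inferInstance : (frattini P).Normal)).conj_mem' _ (hA a a.2 (s i).1) (s i).1
        simpa [mul_assoc] using h⟩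
      one_smul := fun s => rfl
      mul_smul := fun a b s => rfl }
  have hfree : ∀ (a : A) (s : S), a • s = s → a = 1 := fun a s h => Subtype.ext
    (eq_one_of_fixes (fun i => (s i).1) (by simp only [(s _).2]; exact hw) a
      fun i => congrArg (fun t : S => (t i).1) h)
  have hS : Nat.card S = p ^ (r * (n - r)) := by
    rw [Nat.card_pi]
    have : ∀ i : Fin r, Nat.card {x : P // (x : P ⧸ frattini P) = w i} = p ^ (n - r) := by
      intro i
      obtain ⟨y, hy⟩ := QuotientGroup.mk_surjective (w i)
      rw [← (card_quotient_frattini hP hr).2]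
      refine (Nat.card_congr
        { toFun := fun f => ⟨y * f.1, by
            rw [← hy, eq_comm, QuotientGroup.eq, inv_mul_cancel_left]; exact f.2⟩
          invFun := fun z => ⟨y⁻¹ * z.1, QuotientGroup.eq.mp (hy.trans z.2.symm)⟩
          left_inv := fun f => Subtype.ext (inv_mul_cancel_left y _)
          right_inv := fun z => Subtype.ext (mul_inv_cancel_left y _) }).symm
    simp only [this, Finset.prod_const, Finset.card_univ, Fintype.card_fin]
    rw [← pow_mul, mul_comm]
  exact hS ▸ card_dvd_of_free hfree

theorem card_mulAut_dvd (hP : Nat.card P = p ^ n) (hr : (frattini P).index = p ^ r) :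
    Nat.card (MulAut P) ∣ p ^ (r * (n - r)) * ∏ i ∈ Finset.range r, (p ^ r - p ^ i) := by
  have hchar : ∀ α : MulAut P, (frattini P).map α.toMonoidHom = frattini P := fun α =>
    Subgroup.characteristic_iff_map_eq.mp frattini_characteristic α
  have hinv : ∀ (α : MulAut P) (v : Fin r → P),
      closure (Set.range fun i => (v i : P ⧸ frattini P)) = ⊤ →
      closure (Set.range fun i => (α (v i) : P ⧸ frattini P)) = ⊤ := by
    intro α v hv
    let β := QuotientGroup.congr (frattini P) (frattini P) α (hchar α)
    have h1 : (Set.range fun i => (α (v i) : P ⧸ frattini P)) =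
        β.toMonoidHom '' (Set.range fun i => (v i : P ⧸ frattini P)) := by
      rw [← Set.range_comp]; rfl
    rw [h1, ← MonoidHom.map_closure, hv, ← MonoidHom.range_eq_map]
    exact MonoidHom.range_eq_top.mpr β.surjective
  letI : MulAction (MulAut P) (GenTuple P r) :=
    { smul := fun α v => ⟨fun i => α (v.1 i), hinv α v.1 v.2⟩
      one_smul := fun v => rfl
      mul_smul := fun a b v => rfl }
  have : Finite (GenTuple P r) := Subtype.finite
  have hfree : ∀ (α : MulAut P) (v : GenTuple P r), α • v = v → α = 1 := fun α v h =>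
    eq_one_of_fixes v.1 v.2 α fun i => congrArg (fun t : GenTuple P r => t.1 i) h
  refine (card_dvd_of_free hfree).trans (dvd_of_eq ?_)
  obtain ⟨hcomm, hexp⟩ := frattini_quotient_props hP
  obtain ⟨hQ, hF⟩ := card_quotient_frattini hP hr
  let e : GenTuple P r ≃ (Fin r → frattini P) ×
      {w : Fin r → P ⧸ frattini P // Nat.card (closure (Set.range w)) = p ^ r} :=
    { toFun := fun v => (fun i => ⟨(Quotient.out (v.1 i : P ⧸ frattini P))⁻¹ * v.1 i,
          QuotientGroup.eq.mp (QuotientGroup.out_eq' _)⟩,
        ⟨fun i => (v.1 i : P ⧸ frattini P), by rw [v.2, card_top, hQ]⟩)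
      invFun := fun s => ⟨fun i => Quotient.out (s.2.1 i) * s.1 i, by
        have h : ∀ i, ((Quotient.out (s.2.1 i) * s.1 i : P) : P ⧸ frattini P) = s.2.1 i := fun i => by
          rw [QuotientGroup.mk_mul, (QuotientGroup.eq_one_iff _).mpr (s.1 i).2, mul_one,
            QuotientGroup.out_eq']
        simp only [h]
        exact eq_top_of_card_eq _ (s.2.2.trans hQ.symm)⟩
      left_inv := fun v => Subtype.ext (funext fun i => mul_inv_cancel_left _ _)
      right_inv := fun s => by
        have h : ∀ i, ((Quotient.out (s.2.1 i) * s.1 i : P) : P ⧸ frattini P) = s.2.1 i := fun i => by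
          rw [QuotientGroup.mk_mul, (QuotientGroup.eq_one_iff _).mpr (s.1 i).2, mul_one,
            QuotientGroup.out_eq']
        refine Prod.ext (funext fun i => Subtype.ext ?_) (Subtype.ext (funext h))
        show (Quotient.out ((Quotient.out (s.2.1 i) * s.1 i : P) : P ⧸ frattini P))⁻¹ * _ = _
        rw [h i, inv_mul_cancel_left] }
  rw [Nat.card_congr e, Nat.card_prod, card_independent_tuples hcomm hexp hQ r, Nat.card_fun, hF,
    Nat.card_fin, ← pow_mul, mul_comm r]

end Cfsg.Agent.FGS
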