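import Mathlib

set_option autoImplicit false

namespace Cfsg.Agent.FGS

variable {G : Type*} [Group G]

/-- If an element inverted by `g` commutes with an odd power of `g`, it squares to one. -/
theorem sq_eq_one_of_inv_of_odd_pow {g x : G} (hg : g * x * g⁻¹ = x⁻¹) {m : ℕ} (hm : Odd m)
    (hc : Commute (g ^ m) x) : x ^ 2 = 1 := by
  have h2 : Commute (g * g) x := by
    have e : g * (g * x * g⁻¹) * g⁻¹ = x := by
      rw [hg]
      calc g * x⁻¹ * g⁻¹ = (g * x * g⁻¹)⁻¹ := by group
        _ = x := by rw [hg, inv_inv]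
    show g * g * x = x * (g * g)
    calc g * g * x = g * (g * x * g⁻¹) * g⁻¹ * (g * g) := by group
      _ = x * (g * g) := by rw [e]
  obtain ⟨k, rfl⟩ := hm
  have h3 : Commute g x := by
    have h4 : Commute ((g * g) ^ k)⁻¹ x := (h2.pow_left k).inv_left
    have e : g = ((g * g) ^ k)⁻¹ * g ^ (2 * k + 1) := by
      rw [← pow_two, ← pow_mul, pow_succ, inv_mul_cancel_left]
    rw [e]
    exact h4.mul_left hc
  have : x⁻¹ = x := by rw [← hg, h3.eq, mul_inv_cancel_right]
  rw [pow_two]
  nth_rewrite 1 [← this]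
  exact inv_mul_cancel x

/-- An element conjugate to its inverse and centralizing a Sylow 2-subgroup squares to one. -/
theorem sq_eq_one_of_isConj_inv [Finite G] (S : Sylow 2 G) {x : G}
    (hx : x ∈ Subgroup.centralizer ((S : Subgroup G) : Set G)) (hc : IsConj x x⁻¹) : x ^ 2 = 1 := by
  obtain ⟨g, hg⟩ := isConj_iff.1 hc
  set C := Subgroup.centralizer ({x} : Set G) with hC
  have hSC : (S : Subgroup G) ≤ C := fun s hs => by
    rw [hC, Subgroup.mem_centralizer_singleton_iff]
    exact Subgroup.mem_centralizer_iff.1 hx s hs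
  have hodd : Odd C.index :=
    Odd.of_dvd_nat (by rw [← Nat.not_even_iff_odd, even_iff_two_dvd]; exact S.not_dvd_index)
      (Subgroup.index_dvd_of_le hSC)
  set N := Subgroup.normalizer (C : Set G)
  have hgN : g ∈ N := by
    rw [Subgroup.mem_normalizer_iff]
    intro h
    simp only [hC, Subgroup.mem_centralizer_singleton_iff]
    have key : ∀ y : G, y * x = x * y ↔ y * x⁻¹ = x⁻¹ * y := fun y =>
      ⟨fun e => (Commute.inv_right (e : Commute y x)).eq,
        fun e => by simpa using (Commute.inv_right (e : Commute y x⁻¹)).eq⟩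
    rw [key (g * h * g⁻¹), ← hg]
    constructor
    · intro e
      calc g * h * g⁻¹ * (g * x * g⁻¹) = g * (h * x) * g⁻¹ := by group
        _ = g * (x * h) * g⁻¹ := by rw [e]
        _ = g * x * g⁻¹ * (g * h * g⁻¹) := by group
    · intro e
      calc h * x = g⁻¹ * (g * h * g⁻¹ * (g * x * g⁻¹)) * g := by group
        _ = g⁻¹ * (g * x * g⁻¹ * (g * h * g⁻¹)) * g := by rw [e]
        _ = x * h := by group
  have hle : C ≤ N := Subgroup.le_normalizer
  haveI : (C.subgroupOf N).Normal := Subgroup.normal_subgroupOf_iff_le_normalizer hle |>.2 le_rfl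
  have hm : Odd (C.subgroupOf N).index :=
    Odd.of_dvd_nat hodd (Subgroup.relIndex_dvd_index_of_le hle)
  have hpow := Subgroup.pow_index_mem (C.subgroupOf N) (⟨g, hgN⟩ : N)
  rw [Subgroup.mem_subgroupOf, SubgroupClass.coe_pow, hC, Subgroup.mem_centralizer_singleton_iff]
    at hpow
  exact sq_eq_one_of_inv_of_odd_pow hg hm hpow

end Cfsg.Agent.FGS
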