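import Mathlib

set_option autoImplicit false

namespace Cfsg.Agent.FGS

open DihedralGroup

/-- The elements of a dihedral group whose index vanishes under a ring map. -/
def dihedralKer {n d : ℕ} (φ : ZMod n →+* ZMod d) : Subgroup (DihedralGroup n) where
  carrier := {g | match g with | r i => φ i = 0 | sr i => φ i = 0}
  one_mem' := by
    show (match (r 0 : DihedralGroup n) with | r i => φ i = 0 | sr i => φ i = 0)
    exact map_zero φ
  mul_mem' := by
    rintro (a | a) (b | b) ha hb <;> simp only [Set.mem_setOf_eq] at ha hb ⊢ <;>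
      simp [ha, hb]
  inv_mem' := by
    rintro (a | a) ha <;> simp only [Set.mem_setOf_eq] at ha ⊢ <;> simp [ha]

theorem r_mem_dihedralKer {n d : ℕ} (φ : ZMod n →+* ZMod d) (i : ZMod n) :
    r i ∈ dihedralKer φ ↔ φ i = 0 := Iff.rfl

theorem sr_mem_dihedralKer {n d : ℕ} (φ : ZMod n →+* ZMod d) (i : ZMod n) :
    sr i ∈ dihedralKer φ ↔ φ i = 0 := Iff.rfl

/-- `dihedralKer φ` is not commutative when twice some element of the kernel is nonzero. -/
theorem dihedralKer_not_comm {n d : ℕ} (φ : ZMod n →+* ZMod d) (i : ZMod n) (hi : φ i = 0)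
    (h2 : i + i ≠ 0) : ¬ IsMulCommutative (dihedralKer φ) := by
  intro h
  have e := congrArg Subtype.val (h.is_comm.comm
    (⟨sr 0, (sr_mem_dihedralKer φ 0).2 (map_zero φ)⟩ : dihedralKer φ) ⟨r i, hi⟩)
  simp [eq_neg_iff_add_eq_zero] at e
  exact h2 e

/-- A subgroup without reflections consists of rotations, hence is cyclic. -/
theorem exists_sr_of_not_isCyclic {n : ℕ} [NeZero n] {H : Subgroup (DihedralGroup n)}
    (hH : ¬ IsCyclic H) : ∃ i, sr i ∈ H := by
  by_contra hno
  push Not at hno
  apply hH
  have hle : H ≤ Subgroup.zpowers (r 1) := by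
    rintro (a | a) ha
    · exact ⟨(a.val : ℤ), by simp [r_one_pow]⟩
    · exact absurd ha (hno a)
  exact isCyclic_of_le hle
where
  isCyclic_of_le {n : ℕ} {H : Subgroup (DihedralGroup n)} (h : H ≤ Subgroup.zpowers (r 1)) :
      IsCyclic H :=
    isCyclic_of_injective (Subgroup.inclusion h) (Subgroup.inclusion_injective h)

theorem commute_r_sr {n : ℕ} {i j : ZMod n} : r j * sr i = sr i * r j ↔ j + j = 0 := by
  simp only [r_mul_sr, sr_mul_r, sr.injEq]
  constructor
  · intro h; linear_combination -h
  · intro h; linear_combination -h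

theorem commute_sr_sr {n : ℕ} {i j : ZMod n} :
    sr j * sr i = sr i * sr j ↔ (i - j) + (i - j) = 0 := by
  simp only [sr_mul_sr, r.injEq]
  constructor <;> intro h <;> linear_combination h

end Cfsg.Agent.FGS
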