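import Cfsg.Agent.FusSys.GroupSys
import Mathlib.GroupTheory.Sylow

/-!
A group minimal among those with nonabelian Sylow `p`-subgroups in which every `p`-element
centralizes a Sylow `p`-subgroup is simple: if `N` is a proper nontrivial normal subgroup with
Sylow subgroup `Q`, then `G = N C(Q)`, and Burnside's argument in `C(Q)` modulo `C_N(Q)` makes
every element of a Sylow subgroup of `C(Q)` central in it.
-/

set_option autoImplicit false
set_option linter.style.haveILetI false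

namespace Cfsg.Agent.MinPCentral

variable {G : Type*} [Group G] [Finite G] (p : ℕ) [Fact p.Prime]

/-- The property: nonabelian Sylow subgroups and all `p`-elements with `p'` class size. -/
def Prop' (G : Type*) [Group G] : Prop :=
  (∃ P : Sylow p G, ¬ IsMulCommutative P) ∧
    ∀ x : G, (∃ k : ℕ, orderOf x = p ^ k) → ¬ p ∣ (Subgroup.centralizer ({x} : Set G)).index

variable {p}

theorem exists_conj_central
    (hcl : ∀ x : G, (∃ k : ℕ, orderOf x = p ^ k) → ¬ p ∣ (Subgroup.centralizer ({x} : Set G)).index)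
    (P : Sylow p G) {x : G} (hx : x ∈ (P : Subgroup G)) :
    ∃ g : G, g * x * g⁻¹ ∈ (P : Subgroup G) ∧
      ∀ s ∈ (P : Subgroup G), s * (g * x * g⁻¹) = g * x * g⁻¹ * s := by
  obtain ⟨k, hk⟩ := P.2 ⟨x, hx⟩
  obtain ⟨m, -, hm⟩ := (Nat.dvd_prime_pow Fact.out).1
    (orderOf_dvd_of_pow_eq_one (x := x) (congrArg Subtype.val hk))
  set C := Subgroup.centralizer ({x} : Set G) with hC
  have hxC : x ∈ C := Subgroup.mem_centralizer_singleton_iff.2 rfl
  obtain ⟨R, hR⟩ := (Cfsg.Agent.FusSys.isPGroup_zpowers_of_pow_eq_one (p := p)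
    (x := (⟨x, hxC⟩ : C)) (e := k)
    (Subtype.ext (show x ^ p ^ k = 1 from congrArg Subtype.val hk))).exists_le_sylow
  have hi : ¬ p ∣ ((R : Subgroup C).map C.subtype).index := by
    rw [Subgroup.index_map_subtype]
    exact Nat.Prime.not_dvd_mul Fact.out R.not_dvd_index (hcl x ⟨m, hm⟩)
  obtain ⟨g, hg⟩ := MulAction.exists_smul_eq G ((R.2.map C.subtype).toSylow hi) P
  have hmem : ∀ r ∈ (R : Subgroup C), g * (r : G) * g⁻¹ ∈ (P : Subgroup G) := fun r hr => by
    rw [← hg, Sylow.coe_subgroup_smul]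
    exact Subgroup.smul_mem_pointwise_smul (r : G) (MulAut.conj g) _
      (Subgroup.mem_map_of_mem C.subtype hr)
  refine ⟨g, hmem ⟨x, hxC⟩ (hR (Subgroup.mem_zpowers _)), fun s hs => ?_⟩
  rw [← hg, Sylow.coe_subgroup_smul] at hs
  obtain ⟨q, ⟨r, -, rfl⟩, rfl⟩ := hs
  show g * (r : G) * g⁻¹ * (g * x * g⁻¹) = g * x * g⁻¹ * (g * (r : G) * g⁻¹)
  rw [show g * (r : G) * g⁻¹ * (g * x * g⁻¹) = g * ((r : G) * x) * g⁻¹ by group,
    Subgroup.mem_centralizer_singleton_iff.1 r.2]
  group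

theorem normal_abelian
    (hcl : ∀ x : G, (∃ k : ℕ, orderOf x = p ^ k) → ¬ p ∣ (Subgroup.centralizer ({x} : Set G)).index)
    (N : Subgroup G) [N.Normal] (hN : ¬ Prop' p N) (Q : Sylow p N) :
    ∀ a ∈ (Q : Subgroup N), ∀ b ∈ (Q : Subgroup N), a * b = b * a := by
  have hc : ∀ x : N, (∃ k : ℕ, orderOf x = p ^ k) →
      ¬ p ∣ (Subgroup.centralizer ({x} : Set N)).index := by
    intro x hx hd
    refine hcl (x : G) (by simpa only [Subgroup.orderOf_coe] using hx) (hd.trans ?_)
    have he : Subgroup.centralizer ({x} : Set N) =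
        (Subgroup.centralizer ({(x : G)} : Set G)).subgroupOf N := by
      ext y
      simp [Subgroup.mem_subgroupOf, Subgroup.mem_centralizer_singleton_iff, Subtype.ext_iff]
    rw [he]
    exact Cfsg.Agent.FusSys.relIndex_normal_dvd _ N
  have hQ : IsMulCommutative Q := by
    by_contra hna
    exact hN ⟨⟨Q, hna⟩, hc⟩
  exact fun a ha b hb => congrArg Subtype.val (hQ.is_comm.comm ⟨a, ha⟩ ⟨b, hb⟩)

theorem quotient_abelian
    (hcl : ∀ x : G, (∃ k : ℕ, orderOf x = p ^ k) → ¬ p ∣ (Subgroup.centralizer ({x} : Set G)).index)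
    (N : Subgroup G) [N.Normal] (hN : ¬ Prop' p (G ⧸ N)) (P : Sylow p G) :
    ∀ a ∈ (P : Subgroup G), ∀ b ∈ (P : Subgroup G), a * b * a⁻¹ * b⁻¹ ∈ N := by
  have hs := QuotientGroup.mk'_surjective N
  have hc : ∀ x : G ⧸ N, (∃ k : ℕ, orderOf x = p ^ k) →
      ¬ p ∣ (Subgroup.centralizer ({x} : Set (G ⧸ N))).index := by
    rintro x ⟨k, hk⟩ hd
    obtain ⟨T, hT⟩ := (Cfsg.Agent.FusSys.isPGroup_zpowers_of_pow_eq_one (p := p)
      (hk ▸ pow_orderOf_eq_one x)).exists_le_sylow
    obtain ⟨g, hg⟩ := MulAction.exists_smul_eq (G ⧸ N) (P.mapSurjective hs) T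
    have hxT : x ∈ (T : Subgroup (G ⧸ N)) := hT (Subgroup.mem_zpowers x)
    rw [← hg, Sylow.coe_subgroup_smul, Sylow.coe_mapSurjective] at hxT
    obtain ⟨_, ⟨y, hy, rfl⟩, rfl⟩ := hxT
    obtain ⟨g, rfl⟩ := hs g
    obtain ⟨e, he⟩ := P.2 ⟨y, hy⟩
    obtain ⟨m, -, hm⟩ := (Nat.dvd_prime_pow Fact.out).1
      (orderOf_dvd_of_pow_eq_one (x := g * y * g⁻¹) (n := p ^ e)
        (by rw [conj_pow, show y ^ p ^ e = 1 from congrArg Subtype.val he, mul_one,
          mul_inv_cancel]))
    refine hcl _ ⟨m, hm⟩ (hd.trans ((Subgroup.index_dvd_of_le ?_).trans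
      (Subgroup.index_map_dvd (Subgroup.centralizer {g * y * g⁻¹}) hs)))
    rintro _ ⟨z, hz, rfl⟩
    have hz' := congrArg (QuotientGroup.mk' N) (Subgroup.mem_centralizer_singleton_iff.1 hz)
    simp only [map_mul, map_inv] at hz'
    exact Subgroup.mem_centralizer_singleton_iff.2 hz'
  intro a ha b hb
  have hPN : IsMulCommutative (P.mapSurjective hs) := by
    by_contra hna
    exact hN ⟨⟨_, hna⟩, hc⟩
  have h := congrArg Subtype.val (hPN.is_comm.comm
    (⟨_, Subgroup.mem_map_of_mem (QuotientGroup.mk' N) ha⟩ : (P.mapSurjective hs : Subgroup (G ⧸ N)))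
    ⟨_, Subgroup.mem_map_of_mem (QuotientGroup.mk' N) hb⟩)
  simp only [Subgroup.coe_mul] at h
  rw [← QuotientGroup.eq_one_iff]
  show (QuotientGroup.mk' N) (a * b * a⁻¹ * b⁻¹) = 1
  rw [map_mul, map_mul, map_mul, map_inv, map_inv, h]
  group

theorem isSimple (p : ℕ) [Fact p.Prime]
    (h : (∃ P : Sylow p G, ¬ IsMulCommutative P) ∧
      ∀ x : G, (∃ k : ℕ, orderOf x = p ^ k) → ¬ p ∣ (Subgroup.centralizer ({x} : Set G)).index)
    (hmin : ∀ (N : Subgroup G) [N.Normal], N ≠ ⊥ → N ≠ ⊤ →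
      ¬ Prop' p N ∧ ¬ Prop' p (G ⧸ N)) : IsSimpleGroup G := by
  classical
  obtain ⟨⟨P0, hP0⟩, hcl⟩ := h
  haveI : Nontrivial G := by
    by_contra hn
    rw [not_nontrivial_iff_subsingleton] at hn
    exact hP0 ⟨⟨fun a b => Subtype.ext (hn.elim _ _)⟩⟩
  refine ⟨fun N hN => ?_⟩
  haveI := hN
  by_contra hne
  push Not at hne
  obtain ⟨hNb, hNt⟩ := hne
  obtain ⟨hN1, hN2⟩ := hmin N hNb hNt
  -- no proper normal subgroup contains a Sylow subgroup
  have hbig : ∀ (M : Subgroup G) [M.Normal], (∀ x ∈ (P0 : Subgroup G), x ∈ M) → M = ⊤ := by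
    intro M _ hPM
    by_contra hMt
    have hPne : (P0 : Subgroup G) ≠ ⊥ := fun e => hP0 ⟨⟨fun a b => Subtype.ext (by
      have ha : (a : G) = 1 := by simpa [e] using a.2
      have hb : (b : G) = 1 := by simpa [e] using b.2
      simp [ha, hb])⟩⟩
    have hMb : M ≠ ⊥ := fun e => hPne (eq_bot_iff.2 fun x hx => e ▸ hPM x hx)
    refine hP0 ⟨⟨fun a b => Subtype.ext ?_⟩⟩
    have := normal_abelian hcl M (hmin M hMb hMt).1 (P0.subtype hPM)
      ⟨a, hPM a a.2⟩ a.2 ⟨b, hPM b b.2⟩ b.2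
    exact congrArg (fun t : M => (t : G)) this
  obtain ⟨QN⟩ : Nonempty (Sylow p N) := inferInstance
  have hQab := normal_abelian hcl N hN1 QN
  set Q : Subgroup G := (QN : Subgroup N).map N.subtype with hQ
  have hQN : Q ≤ N := Subgroup.map_subtype_le _
  have hQp : IsPGroup p Q := QN.2.map _
  set C := Subgroup.centralizer (Q : Set G) with hC
  have hQC : ∀ q ∈ Q, ∀ c ∈ C, c * q = q * c := fun q hq c hc =>
    (Subgroup.mem_centralizer_iff.1 hc q hq).symm
  have hQleC : Q ≤ C := by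
    intro q hq
    refine Subgroup.mem_centralizer_iff.2 fun r hr => ?_
    obtain ⟨q', hq', rfl⟩ := hq
    obtain ⟨r', hr', rfl⟩ := hr
    exact congrArg Subtype.val (hQab r' hr' q' hq')
  -- `G = N C`
  have hfr : N ⊔ Subgroup.normalizer (Q : Set G) = ⊤ := by
    rw [sup_comm]; exact Sylow.normalizer_sup_eq_top QN
  haveI : (N ⊔ C).Normal := by
    refine Subgroup.normalizer_eq_top_iff.1 (top_unique (hfr.symm.trans_le (sup_le ?_ ?_)))
    · exact le_sup_left.trans Subgroup.le_normalizer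
    · intro m hm
      refine Subgroup.mem_normalizer_iff_map_conj_eq.2 ?_
      rw [Subgroup.map_sup]
      congr 1
      · exact Subgroup.mem_normalizer_iff_map_conj_eq.1
          (Subgroup.normalizer_eq_top_iff.2 hN ▸ Subgroup.mem_top m)
      · ext z
        simp only [Subgroup.mem_map, MulAut.conj_apply]
        constructor
        · rintro ⟨c, hc, rfl⟩
          refine Subgroup.mem_centralizer_iff.2 fun q hq => ?_
          have hq' := (Subgroup.mem_normalizer_iff'.1 hm (m⁻¹ * q)).2 (by simpa using hq)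
          have h1 := hQC _ hq' c hc
          calc q * (m * c * m⁻¹) = m * ((m⁻¹ * q * m) * c) * m⁻¹ := by group
            _ = m * (c * (m⁻¹ * q * m)) * m⁻¹ := by rw [h1]
            _ = m * c * m⁻¹ * q := by group
        · intro hz
          refine ⟨m⁻¹ * z * m, Subgroup.mem_centralizer_iff.2 fun q hq => ?_, by show m * (m⁻¹ * z * m) * m⁻¹ = z; group⟩
          have h1 := hQC _ ((Subgroup.mem_normalizer_iff.1 hm q).1 hq) z hz
          calc q * (m⁻¹ * z * m) = m⁻¹ * ((m * q * m⁻¹) * z) * m := by group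
            _ = m⁻¹ * (z * (m * q * m⁻¹)) * m := by rw [h1]
            _ = m⁻¹ * z * m * q := by group
  have hNC : N ⊔ C = ⊤ := by
    refine hbig _ fun x hx => ?_
    obtain ⟨g, hgx, hgc⟩ := exists_conj_central hcl P0 hx
    -- a conjugate of `Q` lies in `P0`
    obtain ⟨U, hU⟩ := hQp.exists_le_sylow
    obtain ⟨d, hd⟩ := MulAction.exists_smul_eq G U P0
    set k := d⁻¹ * g with hk
    have hkx : k * x * k⁻¹ ∈ C := by
      refine Subgroup.mem_centralizer_iff.2 fun q hq => ?_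
      have hq' : d * q * d⁻¹ ∈ (P0 : Subgroup G) := by
        rw [← hd, Sylow.coe_subgroup_smul]
        exact Subgroup.smul_mem_pointwise_smul q (MulAut.conj d) _ (hU hq)
      have h1 := hgc _ hq'
      calc q * (k * x * k⁻¹) = d⁻¹ * ((d * q * d⁻¹) * (g * x * g⁻¹)) * d := by rw [hk]; group
        _ = d⁻¹ * (g * x * g⁻¹ * (d * q * d⁻¹)) * d := by rw [h1]
        _ = k * x * k⁻¹ * q := by rw [hk]; group
    have := Subgroup.Normal.conj_mem inferInstance _ (Subgroup.mem_sup_right (S := N) hkx) k⁻¹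
    simpa [mul_assoc] using this
  -- a Sylow subgroup of `C` is one of `G`
  have hCi : ¬ p ∣ C.index := by
    intro hd
    have h1 : C.relIndex N = C.index := by
      have e1 : N.relIndex C = N.index := by
        rw [← Subgroup.relIndex_sup_right C N, sup_comm, hNC, Subgroup.relIndex_top_right]
      have e2 := Subgroup.relIndex_mul_relIndex (⊥ : Subgroup G) (N ⊓ C) C bot_le inf_le_right
      have e3 := Subgroup.relIndex_mul_relIndex (⊥ : Subgroup G) (C ⊓ N) N bot_le inf_le_right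
      rw [Subgroup.inf_relIndex_right, Subgroup.relIndex_bot_left, Subgroup.relIndex_bot_left] at e2 e3
      rw [inf_comm C N] at e3
      have e4 := N.card_mul_index
      have e5 := C.card_mul_index
      rw [← e3, ← e1] at e4
      rw [← e2] at e5
      have hI : 0 < Nat.card ↥(N ⊓ C) := Nat.card_pos
      have hK : 0 < N.relIndex C := Nat.pos_of_ne_zero fun h => by
        rw [h, mul_zero] at e2
        exact absurd e2.symm Nat.card_pos.ne'
      refine Nat.eq_of_mul_eq_mul_left (Nat.mul_pos hI hK) ?_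
      rw [e5, ← e4]
      ring
    refine QN.not_dvd_index (hd.trans (h1 ▸ ?_))
    exact Subgroup.index_dvd_of_le fun y hy => hQleC (Subgroup.mem_map_of_mem N.subtype hy)
  obtain ⟨PC⟩ : Nonempty (Sylow p C) := inferInstance
  have hPi : ¬ p ∣ ((PC : Subgroup C).map C.subtype).index := by
    rw [Subgroup.index_map_subtype]
    exact Nat.Prime.not_dvd_mul Fact.out PC.not_dvd_index hCi
  set P : Sylow p G := (PC.2.map C.subtype).toSylow hPi with hP
  have hPC : (P : Subgroup G) ≤ C := Subgroup.map_subtype_le _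
  have hQP : Q ≤ (P : Subgroup G) := by
    have hQn : (P : Subgroup G) ≤ Subgroup.normalizer (Q : Set G) :=
      fun z hz => Subgroup.mem_normalizer_iff.2 fun q => ⟨fun hq => by
          rw [hQC q hq z (hPC hz), mul_inv_cancel_right]; exact hq,
        fun hq => by
          have h1 := hQC _ hq z (hPC hz)
          have h2 : z * q * z⁻¹ = q := mul_left_cancel (a := z) (h1.trans (by group))
          rwa [h2] at hq⟩
    exact le_sup_left.trans (P.3 (hQp.to_sup_of_normal_left' P.2 hQn) le_sup_right).le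
  have hPNQ : ∀ y ∈ (P : Subgroup G), y ∈ N → y ∈ Q := by
    intro y hy hyN
    have hp' : IsPGroup p ((P : Subgroup G).subgroupOf N) := P.2.comap_subtype
    have := QN.3 hp' fun z hz => hQP (Subgroup.mem_map_of_mem N.subtype hz)
    exact ⟨⟨y, hyN⟩, this ▸ hy, rfl⟩
  refine hP0 ?_
  suffices hab : ∀ x ∈ (P : Subgroup G), ∀ s ∈ (P : Subgroup G), s * x = x * s by
    haveI : IsMulCommutative P := ⟨⟨fun a b => Subtype.ext (hab b b.2 a a.2)⟩⟩
    obtain ⟨g, hg⟩ := MulAction.exists_smul_eq G P P0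
    refine ⟨⟨fun a b => ?_⟩⟩
    have h1 := (Sylow.equiv P0 P).injective.eq_iff (a := a * b) (b := b * a)
    refine h1.1 ?_
    rw [map_mul, map_mul]
    exact (inferInstance : IsMulCommutative P).is_comm.comm _ _
  intro x hx
  obtain ⟨g, hy, hyc⟩ := exists_conj_central hcl P hx
  set y := g * x * g⁻¹ with hy'
  obtain ⟨ν, hν, c, hc, hg⟩ := (Subgroup.mem_sup_of_normal_left).1 (show g ∈ N ⊔ C by rw [hNC]; trivial)
  have hcx : (c * x * c⁻¹) * y⁻¹ ∈ N := by
    have e1 : c * x * c⁻¹ = ν⁻¹ * y * ν := by rw [hy', ← hg]; group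
    rw [e1, show ν⁻¹ * y * ν * y⁻¹ = ν⁻¹ * (y * ν * y⁻¹) by group]
    exact N.mul_mem (N.inv_mem hν) (hN.conj_mem ν hν y)
  -- the centralizer of `y` modulo `N` inside `C`
  let H : Subgroup G := ((Subgroup.centralizer ({(QuotientGroup.mk' N) y} : Set (G ⧸ N))).comap
    (QuotientGroup.mk' N)) ⊓ C
  have hPH : (P : Subgroup G) ≤ H := fun s hs => ⟨Subgroup.mem_centralizer_singleton_iff.2 (by
    rw [← map_mul, ← map_mul, hyc s hs]), hPC hs⟩
  have hcPH : ∀ s ∈ (P : Subgroup G), c * s * c⁻¹ ∈ H := fun s hs => by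
    refine ⟨Subgroup.mem_centralizer_singleton_iff.2 ?_,
      C.mul_mem (C.mul_mem hc (hPC hs)) (C.inv_mem hc)⟩
    have h1 : (QuotientGroup.mk' N) (c * x * c⁻¹) = (QuotientGroup.mk' N) y := by
      rw [← mul_inv_eq_one, ← map_inv, ← map_mul]
      exact (QuotientGroup.eq_one_iff _).2 hcx
    have h2 := quotient_abelian hcl N hN2 P x hx s hs
    have h3 : (QuotientGroup.mk' N) (x * s) = (QuotientGroup.mk' N) (s * x) := by
      rw [← mul_inv_eq_one, ← map_inv, ← map_mul]
      refine (QuotientGroup.eq_one_iff _).2 ?_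
      simpa [mul_assoc] using h2
    rw [← h1, ← map_mul, ← map_mul,
      show c * s * c⁻¹ * (c * x * c⁻¹) = c * (s * x) * c⁻¹ by group,
      show c * x * c⁻¹ * (c * s * c⁻¹) = c * (x * s) * c⁻¹ by group,
      map_mul, map_mul, map_mul (_) (c * (x * s)), map_mul (_) c (x * s), h3]
  set U₁ : Sylow p H := P.subtype hPH
  set U₂ : Sylow p H := (c • P).subtype (fun z hz => by
    rw [Sylow.coe_subgroup_smul] at hz
    obtain ⟨s, hs, rfl⟩ := hz
    exact hcPH s hs)
  obtain ⟨η, hη⟩ := MulAction.exists_smul_eq H U₂ U₁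
  have hconjP : ∀ s ∈ (P : Subgroup G), (η : G) * (c * s * c⁻¹) * (η : G)⁻¹ ∈ (P : Subgroup G) := by
    intro s hs
    have hmem : (⟨c * s * c⁻¹, hcPH s hs⟩ : H) ∈ (U₂ : Subgroup H) := by
      show c * s * c⁻¹ ∈ ((c • P : Sylow p G) : Subgroup G)
      rw [Sylow.coe_subgroup_smul]
      exact Subgroup.smul_mem_pointwise_smul s (MulAut.conj c) _ hs
    have h2 := Subgroup.smul_mem_pointwise_smul _ (MulAut.conj η) _ hmem
    rw [← Sylow.coe_subgroup_smul] at h2
    change _ ∈ ((η • U₂ : Sylow p H) : Subgroup H) at h2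
    rw [hη] at h2
    exact h2
  set n := (η : G) * c
  have hn : ∀ s ∈ (P : Subgroup G), n * s * n⁻¹ ∈ (P : Subgroup G) := fun s hs => by
    have := hconjP s hs
    simpa [n, mul_assoc] using this
  have hnx : ∀ s ∈ (P : Subgroup G), s * (n * x * n⁻¹) = n * x * n⁻¹ * s := by
    intro s hs
    have h1 : (QuotientGroup.mk' N) (n * x * n⁻¹) = (QuotientGroup.mk' N) y := by
      have he : (QuotientGroup.mk' N) (c * x * c⁻¹) = (QuotientGroup.mk' N) y := by
        rw [← mul_inv_eq_one, ← map_inv, ← map_mul]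
        exact (QuotientGroup.eq_one_iff _).2 hcx
      rw [show n * x * n⁻¹ = (η : G) * (c * x * c⁻¹) * (η : G)⁻¹ by simp [n, mul_assoc],
        map_mul, map_mul, he, map_inv, Subgroup.mem_centralizer_singleton_iff.1 η.2.1,
        mul_inv_cancel_right]
    have h2 : y⁻¹ * (n * x * n⁻¹) ∈ Q := by
      refine hPNQ _ ((P : Subgroup G).mul_mem ((P : Subgroup G).inv_mem hy) (hn x hx)) ?_
      rw [← QuotientGroup.eq_one_iff]
      show (QuotientGroup.mk' N) _ = 1
      rw [map_mul, h1, map_inv, inv_mul_cancel]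
    have h3 : Commute s (y⁻¹ * (n * x * n⁻¹)) := hQC _ h2 s (hPC hs)
    have h4 : Commute s (y * (y⁻¹ * (n * x * n⁻¹))) := (show Commute s y from hyc s hs).mul_right h3
    rwa [mul_inv_cancel_left] at h4
  intro s hs
  have h5 := hnx _ (hn s hs)
  rw [show n * s * n⁻¹ * (n * x * n⁻¹) = n * (s * x) * n⁻¹ by group,
    show n * x * n⁻¹ * (n * s * n⁻¹) = n * (x * s) * n⁻¹ by group] at h5
  exact mul_left_cancel (mul_right_cancel h5)

end Cfsg.Agent.MinPCentral
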