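import Cfsg.Agent.Core.Zipper

/-!
A refinement of Wielandt's criterion: it suffices to conjugate by conjugates of elements of `A`.
-/

set_option autoImplicit false
set_option linter.style.haveILetI false

namespace Cfsg.Agent.Core

open Subgroup
open scoped Pointwise

universe u

variable {G : Type u} [Group G]

/-- The refined criterion. -/
theorem isSubnormal_of_forall_mem_conj [Finite G] {A : Subgroup G}
    (h : ∀ a ∈ A, ∀ g : G, (A.subgroupOf (A ⊔ MulAut.conj (g⁻¹ * a * g) • A)).IsSubnormal) : A.IsSubnormal := by
  suffices H : ∀ (n : ℕ) (G : Type u) [Group G] [Finite G], Nat.card G = n → ∀ A : Subgroup G,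
      (∀ a ∈ A, ∀ g : G, (A.subgroupOf (A ⊔ MulAut.conj (g⁻¹ * a * g) • A)).IsSubnormal) → A.IsSubnormal from H _ G rfl A h
  clear h A
  intro n
  induction n using Nat.strong_induction_on with
  | _ n ih =>
    intro G _ _ hn A h
    by_contra hA
    have hsub : ∀ H : Subgroup G, A ≤ H → H ≠ ⊤ → (A.subgroupOf H).IsSubnormal := by
      intro H hAH hH
      refine ih _ (hn ▸ Nat.lt_of_le_of_ne (card_le_card_group H)
        fun e => hH (eq_top_of_card_eq H e)) H rfl _ fun a ha y => ?_
      set g := y⁻¹ * a * y with hg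
      have hgH : MulAut.conj (g : G) • A ≤ H := Coprime.conj_smul_le_self (le_normalizer g.2) hAH
      have hmap : (A.subgroupOf H ⊔ MulAut.conj g • A.subgroupOf H).map H.subtype =
          A ⊔ MulAut.conj (g : G) • A := by
        rw [Subgroup.map_sup, Coprime.conj_smul_map_subtype, map_subgroupOf_eq_of_le hAH]
      let f : (A.subgroupOf H ⊔ MulAut.conj g • A.subgroupOf H : Subgroup H) →*
          (A ⊔ MulAut.conj (g : G) • A : Subgroup G) :=
        (H.subtype.comp (Subgroup.subtype _)).codRestrict _ fun y => hmap ▸ mem_map_of_mem _ y.2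
      refine Eq.mp (congrArg Subgroup.IsSubnormal ?_) ((h _ ha (y : G)).comap f)
      ext y
      rfl
    obtain ⟨M, hM, hAM, huniq⟩ := exists_unique_coatom A hA hsub
    have hconj : ∀ a ∈ A, ∀ g : G, MulAut.conj (g⁻¹ * a * g) • A ≤ M := by
      intro a ha g
      set J := A ⊔ MulAut.conj (g⁻¹ * a * g) • A with hJ
      by_cases htop : J = ⊤
      · exfalso
        exact hA ((h a ha g).trans le_sup_left (by rw [← hJ, htop]; exact Subgroup.IsSubnormal.top))
      · obtain ⟨L, hL, hJL⟩ := (eq_top_or_exists_le_coatom J).resolve_left htop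
        exact le_sup_right.trans (hJL.trans (huniq L hL (le_sup_left.trans hJL)).le)
    have hNle : normalClosure (A : Set G) ≤ M := by
      by_cases hMn : normalizer (M : Set G) = ⊤
      · haveI := normalizer_eq_top_iff.mp hMn
        exact normalClosure_le_normal hAM
      have hNM : normalizer (M : Set G) = M :=
        ((IsCoatom.le_iff hM).mp le_normalizer).resolve_left hMn
      refine (closure_le _).mpr fun z hz => ?_
      obtain ⟨v, hv, hvz⟩ := Group.mem_conjugatesOfSet_iff.mp hz
      obtain ⟨c, rfl⟩ := isConj_iff.mp hvz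
      set x := c * v * c⁻¹ with hx
      have hxA : MulAut.conj x • A ≤ M := by simpa [hx] using hconj v hv c⁻¹
      have hA' : A ≤ MulAut.conj x⁻¹ • M := by
        have := pointwise_smul_le_pointwise_smul_iff (a := MulAut.conj x⁻¹) |>.mpr hxA
        rwa [conj_inv_smul] at this
      have htop : MulAut.conj x⁻¹ • M ≠ ⊤ := fun e => hM.1 (eq_top_of_card_eq _ (by
        rw [← Coprime.card_conj_smul x⁻¹ M, e, card_top]))
      obtain ⟨L, hL, hML⟩ := (eq_top_or_exists_le_coatom _).resolve_left htop
      have hLM := huniq L hL (hA'.trans hML)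
      have hfix : MulAut.conj x⁻¹ • M = M :=
        eq_of_le_of_card_ge (hLM ▸ hML) (by rw [Coprime.card_conj_smul])
      have := Coprime.mem_normalizer_of_conj_smul_eq hfix
      rw [inv_mem_iff, hNM] at this
      exact this
    have hne : normalClosure (A : Set G) ≠ ⊤ := fun e => hM.1 (top_le_iff.mp (e ▸ hNle))
    exact hA ((hsub _ le_normalClosure hne).trans le_normalClosure normalClosure_normal.isSubnormal)

end Cfsg.Agent.Core
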